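import Groth.Agent.Goldman.Basic
import Mathlib.AlgebraicGeometry.Morphisms.Immersion
import Mathlib.AlgebraicGeometry.Morphisms.Finite
import Mathlib.AlgebraicGeometry.Fiber
import Mathlib.RingTheory.Artinian.Ring

/-!
# Finite type points
-/

universe u

open AlgebraicGeometry CategoryTheory TopologicalSpace IsLocalRing Pointwise

namespace Groth.Agent.FtPts6

/-- A descent step in the lemma of Artin and Tate. -/
theorem finiteType_of_finite_field (A : Type u) [CommRing A] (F L : Type u) [Field F] [Field L]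
    [Algebra A F] [Algebra F L] [Algebra A L] [IsScalarTower A F L] [Module.Finite F L]
    [Algebra.FiniteType A L] : Algebra.FiniteType A F := by
  let q : Ideal A := RingHom.ker (algebraMap A L)
  haveI : q.IsPrime := RingHom.ker_isPrime _
  letI : Algebra (A ⧸ q) L := (RingHom.kerLift (algebraMap A L)).toAlgebra
  haveI : IsScalarTower A (A ⧸ q) L := IsScalarTower.of_algebraMap_eq fun _ => rfl
  haveI : Algebra.FiniteType (A ⧸ q) L := Algebra.FiniteType.of_restrictScalars_finiteType A _ _
  obtain ⟨g, hg0, hg⟩ := Goldman.exists_isField_away_of_finiteType_field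
    (B := A ⧸ q) (K := L) (RingHom.kerLift_injective _)
  let L' := FractionRing (A ⧸ q)
  haveI := Goldman.finiteType_fractionRing_of_isField_away hg0 hg
  haveI : Algebra.FiniteType A L' :=
    Algebra.FiniteType.trans (S := A ⧸ q) (Algebra.FiniteType.of_surjective (Ideal.Quotient.mkₐ A q) Ideal.Quotient.mk_surjective)
      inferInstance
  have hker : ∀ a ∈ q, algebraMap A F a = 0 := fun a ha => by
    have h0 : algebraMap A L a = 0 := ha
    rw [IsScalarTower.algebraMap_apply A F L] at h0
    exact (map_eq_zero_iff _ (algebraMap F L).injective).mp h0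
  let ι : (A ⧸ q) →+* F := Ideal.Quotient.lift q (algebraMap A F) hker
  have hι : Function.Injective ι := RingHom.lift_injective_of_ker_le_ideal q hker fun a ha => by
    show algebraMap A L a = 0
    rw [IsScalarTower.algebraMap_apply A F L, RingHom.mem_ker.mp ha, map_zero]
  let j : L' →+* F := IsFractionRing.lift hι
  letI := j.toAlgebra
  haveI : IsScalarTower A L' F := IsScalarTower.of_algebraMap_eq fun a => by
    show algebraMap A F a = j (algebraMap A L' a)
    rw [IsScalarTower.algebraMap_apply A (A ⧸ q) L', IsFractionRing.lift_algebraMap]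
    rfl
  letI : Algebra L' L := ((algebraMap F L).comp j).toAlgebra
  haveI : IsScalarTower L' F L := IsScalarTower.of_algebraMap_eq fun _ => rfl
  haveI : IsScalarTower A L' L := IsScalarTower.of_algebraMap_eq fun a => by
    show algebraMap A L a = algebraMap F L (algebraMap L' F (algebraMap A L' a))
    rw [← IsScalarTower.algebraMap_apply A L' F, ← IsScalarTower.algebraMap_apply A F L]
  haveI : Algebra.FiniteType L' L := Algebra.FiniteType.of_restrictScalars_finiteType A _ _
  haveI : Module.Finite L' L := finite_of_finite_type_of_isJacobsonRing _ _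
  haveI : Module.Finite L' F :=
    Module.Finite.of_injective (IsScalarTower.toAlgHom L' F L).toLinearMap (algebraMap F L).injective
  exact Algebra.FiniteType.trans (S := L') inferInstance inferInstance

variable {S T : Scheme.{u}}

theorem isLocallyClosed_singleton_of_locallyOfFiniteType {s : S}
    (h : LocallyOfFiniteType (S.fromSpecResidueField s)) : IsLocallyClosed ({s} : Set S) := by
  obtain ⟨_, ⟨U, hU, rfl⟩, hsU, -⟩ :=
    S.isBasis_affineOpens.exists_subset_of_mem_open (Set.mem_univ s) isOpen_univ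
  let φ : Γ(S, U) ⟶ S.residueField s := S.presheaf.germ U s hsU ≫ S.residue s
  have hfac : Spec.map φ ≫ hU.fromSpec = S.fromSpecResidueField s := by
    rw [Spec.map_comp, Category.assoc]
    exact congrArg (Spec.map (S.residue s) ≫ ·) (hU.fromSpecStalk_eq_fromSpecStalk hsU)
  have hft : φ.hom.FiniteType := by
    have : LocallyOfFiniteType (Spec.map φ ≫ hU.fromSpec) := by rw [hfac]; exact h
    exact (HasRingHomProperty.Spec_iff (P := @LocallyOfFiniteType)).mp
      (locallyOfFiniteType_of_comp _ hU.fromSpec)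
  let ψ : Γ(S, U) →+* S.residueField s := φ.hom
  letI := ψ.toAlgebra
  let q : Ideal Γ(S, U) := RingHom.ker ψ
  haveI : q.IsPrime := RingHom.ker_isPrime _
  letI : Algebra (Γ(S, U) ⧸ q) (S.residueField s) := (RingHom.kerLift ψ).toAlgebra
  haveI : IsScalarTower Γ(S, U) (Γ(S, U) ⧸ q) (S.residueField s) :=
    IsScalarTower.of_algebraMap_eq fun _ => rfl
  haveI : Algebra.FiniteType Γ(S, U) (S.residueField s) := hft
  haveI : Algebra.FiniteType (Γ(S, U) ⧸ q) (S.residueField s) :=
    Algebra.FiniteType.of_restrictScalars_finiteType Γ(S, U) _ _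
  obtain ⟨f, hf0, hf⟩ := Goldman.exists_isField_away_of_finiteType_field
    (B := Γ(S, U) ⧸ q) (K := S.residueField s) ψ.kerLift_injective
  have hall := Goldman.inAll_of_isField_away hf0 hf
  obtain ⟨g, rfl⟩ := Ideal.Quotient.mk_surjective f
  have hgq : g ∉ q := fun hg => hf0 (Ideal.Quotient.eq_zero_iff_mem.mpr hg)
  have hqs : hU.primeIdealOf ⟨s, hsU⟩ = ⟨q, inferInstance⟩ := by
    rw [hU.primeIdealOf_eq_map_closedPoint]
    refine PrimeSpectrum.ext ?_
    ext x
    show (S.presheaf.germ U s hsU).hom x ∈ maximalIdeal _ ↔ ψ x = 0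
    exact (IsLocalRing.residue_eq_zero_iff _).symm
  have himg : hU.fromSpec ⟨q, inferInstance⟩ = s := by rw [← hqs, hU.fromSpec_primeIdealOf]
  have hsg : s ∈ S.basicOpen g := by
    have : (⟨q, inferInstance⟩ : Spec Γ(S, U)) ∈ hU.fromSpec ⁻¹ᵁ S.basicOpen g := by
      rw [hU.fromSpec_preimage_basicOpen]; exact hgq
    exact himg ▸ this
  have heq : ({s} : Set S) = (S.basicOpen g : Set S) ∩ closure {s} := by
    refine Set.Subset.antisymm (fun x hx => hx.symm ▸ ⟨hsg, subset_closure rfl⟩) ?_
    rintro x ⟨hxg, hx⟩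
    have hxU : x ∈ U := S.basicOpen_le g hxg
    obtain ⟨p, rfl⟩ : x ∈ Set.range hU.fromSpec := by rw [hU.range_fromSpec]; exact hxU
    have hpg : g ∉ p.asIdeal := by
      have h' : p ∈ hU.fromSpec ⁻¹ᵁ S.basicOpen g := hxg
      rwa [hU.fromSpec_preimage_basicOpen] at h'
    have hle : q ≤ p.asIdeal := by
      haveI := hU.isOpenImmersion_fromSpec
      have hsp : hU.fromSpec (⟨q, inferInstance⟩ : PrimeSpectrum Γ(S, U)) ⤳ hU.fromSpec p := by
        rw [himg]; exact specializes_iff_mem_closure.mpr hx
      exact (PrimeSpectrum.le_iff_specializes _ _).mpr (hU.fromSpec.isOpenEmbedding.isInducing.specializes_iff.mp hsp)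
    haveI : p.asIdeal.IsPrime := p.2
    have hpq : p.asIdeal = q := by
      by_contra hne
      have hmk : RingHom.ker (Ideal.Quotient.mk q) ≤ p.asIdeal := by rwa [Ideal.mk_ker]
      have hmap : (p.asIdeal.map (Ideal.Quotient.mk q)) ≠ ⊥ := fun hb =>
        hne (le_antisymm ((Ideal.map_eq_bot_iff_le_ker _).mp hb |>.trans Ideal.mk_ker.le) hle)
      have := hall _ (Ideal.map_isPrime_of_surjective Ideal.Quotient.mk_surjective hmk) hmap
      rw [Ideal.mem_quotient_iff_mem_sup, sup_eq_left.mpr hle] at this
      exact hpg this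
    show hU.fromSpec p = s
    rw [← himg]
    exact congrArg hU.fromSpec (PrimeSpectrum.ext hpq)
  rw [heq]
  exact (S.basicOpen g).isOpen.isLocallyClosed.inter isClosed_closure.isLocallyClosed

theorem locallyOfFiniteType_iff_isLocallyClosed {s : S} :
    LocallyOfFiniteType (S.fromSpecResidueField s) ↔ IsLocallyClosed ({s} : Set S) := by
  refine ⟨isLocallyClosed_singleton_of_locallyOfFiniteType, fun h => ?_⟩
  haveI : IsImmersion (S.fromSpecResidueField s) :=
    { isLocallyClosed_range := by rw [Scheme.range_fromSpecResidueField]; exact h }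
  infer_instance

theorem isLocallyClosed_singleton_iff {s : S} :
    IsLocallyClosed ({s} : Set S) ↔
      ∃ U : S.Opens, IsAffineOpen U ∧ ∃ hs : s ∈ U, IsClosed ({⟨s, hs⟩} : Set ↥U) := by
  constructor
  · rintro ⟨W, F, hW, hF, hWF⟩
    obtain ⟨_, ⟨U, hU, rfl⟩, hsU, hUW⟩ :=
      S.isBasis_affineOpens.exists_subset_of_mem_open (hWF.le rfl).1 hW
    refine ⟨U, hU, hsU, ?_⟩
    convert hF.preimage (continuous_subtype_val (p := (· ∈ U))) using 1
    ext ⟨x, hx⟩
    simp only [Set.mem_singleton_iff, Subtype.ext_iff, Set.mem_preimage]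
    exact ⟨fun h => h ▸ (hWF.le rfl).2, fun h => hWF.ge ⟨hUW hx, h⟩⟩
  · rintro ⟨U, -, hs, hc⟩
    have := hc.isLocallyClosed.image Topology.IsInducing.subtypeVal
      (by simpa using U.isOpen.isLocallyClosed)
    simpa using this

theorem pts_iff {s : S} :
    LocallyOfFiniteType (S.fromSpecResidueField s) ↔
      ∃ U : S.Opens, IsAffineOpen U ∧ ∃ hs : s ∈ U, IsClosed ({⟨s, hs⟩} : Set ↥U) :=
  locallyOfFiniteType_iff_isLocallyClosed.trans isLocallyClosed_singleton_iff

/-- A finite type field-valued point has finite residue extension, and its image is a finite type point. -/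
theorem field_point_iff (k : Type u) [Field k] (f : Spec (CommRingCat.of k) ⟶ S) :
    LocallyOfFiniteType f ↔
      LocallyOfFiniteType (S.fromSpecResidueField (f (closedPoint k))) ∧
        (f.residueFieldMap (closedPoint k)).hom.Finite := by
  have hfac := f.SpecMap_residueFieldMap_fromSpecResidueField (closedPoint k)
  let P : Spec (CommRingCat.of k) := closedPoint k
  have hcl : IsClosedImmersion ((Spec (CommRingCat.of k)).fromSpecResidueField P) :=
    isClosed_singleton_iff_isClosedImmersion.mp (IsLocalRing.isClosed_singleton_closedPoint k)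
  constructor
  · intro hf
    haveI := hcl
    haveI : LocallyOfFiniteType (Spec.map (f.residueFieldMap P) ≫ S.fromSpecResidueField (f P)) := by
      rw [hfac]; infer_instance
    have hft : (f.residueFieldMap P).hom.FiniteType :=
      (HasRingHomProperty.Spec_iff (P := @LocallyOfFiniteType)).mp
        (locallyOfFiniteType_of_comp _ (S.fromSpecResidueField (f P)))
    have hfin : (f.residueFieldMap P).hom.Finite := by
      algebraize [(f.residueFieldMap P).hom]
      exact finite_of_finite_type_of_isJacobsonRing _ _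
    refine ⟨?_, hfin⟩
    -- the finite extension is faithfully flat, descend along the point
    obtain ⟨_, ⟨U, hU, rfl⟩, hsU, -⟩ :=
      S.isBasis_affineOpens.exists_subset_of_mem_open (Set.mem_univ (f P)) isOpen_univ
    let φ : Γ(S, U) ⟶ S.residueField (f P) := S.presheaf.germ U (f P) hsU ≫ S.residue (f P)
    have hfacU : Spec.map φ ≫ hU.fromSpec = S.fromSpecResidueField (f P) := by
      rw [Spec.map_comp, Category.assoc]
      exact congrArg (Spec.map (S.residue _) ≫ ·) (hU.fromSpecStalk_eq_fromSpecStalk hsU)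
    have hcomp : (φ ≫ f.residueFieldMap P).hom.FiniteType := by
      refine (HasRingHomProperty.Spec_iff (P := @LocallyOfFiniteType)).mp ?_
      haveI : LocallyOfFiniteType (Spec.map (φ ≫ f.residueFieldMap P) ≫ hU.fromSpec) := by
        rw [Spec.map_comp, Category.assoc, hfacU]; infer_instance
      exact locallyOfFiniteType_of_comp _ hU.fromSpec
    have hφ : φ.hom.FiniteType := by
      let ψ : Γ(S, U) →+* S.residueField (f P) := φ.hom
      let χ : S.residueField (f P) →+* (Spec (CommRingCat.of k)).residueField P := (f.residueFieldMap P).hom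
      letI := ψ.toAlgebra
      letI := χ.toAlgebra
      letI := (χ.comp ψ).toAlgebra
      haveI : IsScalarTower Γ(S, U) (S.residueField (f P)) ((Spec (CommRingCat.of k)).residueField P) :=
        IsScalarTower.of_algebraMap_eq fun _ => rfl
      haveI : Module.Finite (S.residueField (f P)) ((Spec (CommRingCat.of k)).residueField P) := hfin
      haveI : Algebra.FiniteType Γ(S, U) ((Spec (CommRingCat.of k)).residueField P) := hcomp
      exact finiteType_of_finite_field Γ(S, U) _ ((Spec (CommRingCat.of k)).residueField P)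
    rw [← hfacU]
    haveI := hU.isOpenImmersion_fromSpec
    haveI : LocallyOfFiniteType (Spec.map φ) := (HasRingHomProperty.Spec_iff (P := @LocallyOfFiniteType)).mpr hφ
    infer_instance
  · rintro ⟨h1, h2⟩
    haveI := h1
    haveI : LocallyOfFiniteType (Spec.map (f.residueFieldMap P)) :=
      (HasRingHomProperty.Spec_iff (P := @LocallyOfFiniteType)).mpr h2.finiteType
    have h3 : LocallyOfFiniteType ((Spec (CommRingCat.of k)).fromSpecResidueField P ≫ f) := hfac ▸ inferInstance
    haveI := hcl
    haveI : Surjective ((Spec (CommRingCat.of k)).fromSpecResidueField P) := ⟨fun x =>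
      ⟨(IsLocalRing.closedPoint _ : PrimeSpectrum ((Spec (CommRingCat.of k)).residueField P)),
        Subsingleton.elim (α := PrimeSpectrum k) _ _⟩⟩
    haveI : IsIso ((Spec (CommRingCat.of k)).fromSpecResidueField P) :=
      isIso_of_isClosedImmersion_of_surjective _
    haveI := h3
    rw [show f = inv ((Spec (CommRingCat.of k)).fromSpecResidueField P) ≫
      ((Spec (CommRingCat.of k)).fromSpecResidueField P ≫ f) by simp]
    infer_instance

theorem image_subset (f : T ⟶ S) [LocallyOfFiniteType f] :
    f '' {t : T | LocallyOfFiniteType (T.fromSpecResidueField t)} ⊆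
      {s : S | LocallyOfFiniteType (S.fromSpecResidueField s)} := by
  rintro _ ⟨t, ht, rfl⟩
  haveI : LocallyOfFiniteType (T.fromSpecResidueField t) := ht
  let g : Spec (CommRingCat.of (T.residueField t)) ⟶ S := T.fromSpecResidueField t ≫ f
  have h := ((field_point_iff (T.residueField t) g).mp (inferInstanceAs (LocallyOfFiniteType (T.fromSpecResidueField t ≫ f)))).1
  have heq : g (closedPoint (T.residueField t)) = f t :=
    congrArg f (Scheme.fromSpecResidueField_apply t _)
  show LocallyOfFiniteType (S.fromSpecResidueField (f t))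
  rw [locallyOfFiniteType_iff_isLocallyClosed] at h ⊢
  exact heq ▸ h

theorem image_eq (f : T ⟶ S) [LocallyOfFiniteType f] [Surjective f] :
    f '' {t : T | LocallyOfFiniteType (T.fromSpecResidueField t)} =
      {s : S | LocallyOfFiniteType (S.fromSpecResidueField s)} := by
  refine (image_subset f).antisymm fun s hs => ?_
  haveI : LocallyOfFiniteType (S.fromSpecResidueField s) := hs
  haveI : LocallyOfFiniteType (f.fiberι s) :=
    inferInstanceAs (LocallyOfFiniteType (Limits.pullback.fst f (S.fromSpecResidueField s)))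
  haveI : LocallyOfFiniteType (f.fiberToSpecResidueField s) :=
    inferInstanceAs (LocallyOfFiniteType (Limits.pullback.snd f (S.fromSpecResidueField s)))
  haveI : JacobsonSpace (f.fiber s) := LocallyOfFiniteType.jacobsonSpace (f.fiberToSpecResidueField s)
  obtain ⟨t₀, ht₀⟩ := f.surjective s
  obtain ⟨z, -, hz⟩ := nonempty_inter_closedPoints
    (⟨(f.fiberHomeo s).symm ⟨t₀, ht₀⟩, trivial⟩ : (Set.univ : Set (f.fiber s)).Nonempty) isOpen_univ.isLocallyClosed
  haveI := isClosed_singleton_iff_isClosedImmersion.mp hz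
  let g : Spec (CommRingCat.of ((f.fiber s).residueField z)) ⟶ T := (f.fiber s).fromSpecResidueField z ≫ f.fiberι s
  have h := ((field_point_iff _ g).mp (inferInstanceAs
    (LocallyOfFiniteType ((f.fiber s).fromSpecResidueField z ≫ f.fiberι s)))).1
  have heq : g (closedPoint ((f.fiber s).residueField z)) = f.fiberι s z :=
    congrArg (f.fiberι s) (Scheme.fromSpecResidueField_apply z _)
  refine ⟨f.fiberι s z, ?_, (f.fiberHomeo s z).2⟩
  show LocallyOfFiniteType (T.fromSpecResidueField _)
  rw [locallyOfFiniteType_iff_isLocallyClosed] at h ⊢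
  exact heq ▸ h

theorem exists_mem_of_isLocallyClosed {Z : Set S} (hZ : IsLocallyClosed Z) (hne : Z.Nonempty) :
    (Z ∩ {s : S | LocallyOfFiniteType (S.fromSpecResidueField s)}).Nonempty := by
  obtain ⟨W, F, hW, hF, rfl⟩ := hZ
  obtain ⟨z, hz⟩ := hne
  obtain ⟨_, ⟨U, hU, rfl⟩, hzU, hUW⟩ := S.isBasis_affineOpens.exists_subset_of_mem_open hz.1 hW
  haveI : CompactSpace ↥(U : Set S) := isCompact_iff_compactSpace.mp hU.isCompact
  haveI : T0Space ↥(U : Set S) := inferInstance
  obtain ⟨x, hxF, hxc⟩ := IsClosed.exists_closed_singleton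
    (hF.preimage (continuous_subtype_val (p := (· ∈ (U : Set S))))) ⟨⟨z, hzU⟩, hz.2⟩
  exact ⟨x.1, ⟨hUW x.2, hxF⟩, pts_iff.mpr ⟨U, hU, x.2, hxc⟩⟩

theorem exists_mem_dense (Z : Set S) (hZ : IsClosed Z) :
    Z ⊆ closure (Z ∩ {s : S | LocallyOfFiniteType (S.fromSpecResidueField s)}) := by
  intro z hz
  rw [mem_closure_iff]
  intro W hW hzW
  obtain ⟨x, ⟨hxW, hxZ⟩, hx⟩ :=
    exists_mem_of_isLocallyClosed ⟨W, Z, hW, hZ, rfl⟩ ⟨z, hzW, hz⟩
  exact ⟨x, hxW, hxZ, hx⟩

theorem adjoin_eq_top_of_nilpotent {R A : Type u} [CommRing R] [CommRing A] [Algebra R A]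
    (B : Subalgebra R A) (m : Ideal A) (hm : IsNilpotent m) (G : Set A) (hG : Ideal.span G = m)
    (hGB : G ⊆ B) (hB : ∀ a : A, ∃ b ∈ B, a - b ∈ m) : B = ⊤ := by
  have step : ∀ (n : ℕ) (x : A), x ∈ m ^ n → ∃ b ∈ B, x - b ∈ m ^ (n + 1) := by
    intro n x hx
    rw [← hG, Ideal.span, Submodule.span_pow] at hx
    induction hx using Submodule.span_induction with
    | mem y hy =>
      refine ⟨y, ?_, by simp⟩
      induction n generalizing y with
      | zero => rw [pow_zero, Set.mem_one] at hy; exact hy ▸ one_mem B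
      | succ n ih =>
        rw [pow_succ] at hy
        obtain ⟨u, hu, v, hv, rfl⟩ := Set.mem_mul.mp hy
        exact mul_mem (ih u hu) (hGB hv)
    | zero => exact ⟨0, zero_mem _, by simp⟩
    | add y z _ _ hy hz =>
      obtain ⟨b, hb, hb'⟩ := hy
      obtain ⟨c, hc, hc'⟩ := hz
      exact ⟨b + c, add_mem hb hc, by rw [add_sub_add_comm]; exact add_mem hb' hc'⟩
    | smul r y hy' hy =>
      obtain ⟨b, hb, hb'⟩ := hy
      obtain ⟨c, hc, hc'⟩ := hB r
      refine ⟨c * b, mul_mem hc hb, ?_⟩
      have hy2 : y ∈ m ^ n := by rw [← hG, Ideal.span, Submodule.span_pow]; exact hy'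
      rw [smul_eq_mul, show r * y - c * b = (r - c) * y + c * (y - b) by ring]
      exact add_mem (by rw [pow_succ']; exact Ideal.mul_mem_mul hc' hy2) (Ideal.mul_mem_left _ c hb')
  obtain ⟨N, hN⟩ := hm
  refine top_unique fun a _ => ?_
  have : ∀ n : ℕ, ∃ b ∈ B, a - b ∈ m ^ n := by
    intro n
    induction n with
    | zero => exact ⟨0, zero_mem _, by simp⟩
    | succ n ih =>
      obtain ⟨b, hb, hb'⟩ := ih
      obtain ⟨c, hc, hc'⟩ := step n _ hb'
      exact ⟨b + c, add_mem hb hc, by rw [← sub_sub]; exact hc'⟩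
  obtain ⟨b, hb, hb'⟩ := this N
  rw [hN, Ideal.zero_eq_bot, Submodule.mem_bot, sub_eq_zero] at hb'
  exact hb' ▸ hb

theorem artinian_point_iff (A : Type u) [CommRing A] [IsArtinianRing A] [IsLocalRing A]
    (f : Spec (CommRingCat.of A) ⟶ S) :
    LocallyOfFiniteType f ↔
      LocallyOfFiniteType (Spec.map (CommRingCat.ofHom (residue A)) ≫ f) := by
  haveI : IsClosedImmersion (Spec.map (CommRingCat.ofHom (residue A))) :=
    IsClosedImmersion.spec_of_surjective _ residue_surjective
  refine ⟨fun h => inferInstance, fun h => ?_⟩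
  obtain ⟨_, ⟨U, hU, rfl⟩, hsU, -⟩ :=
    S.isBasis_affineOpens.exists_subset_of_mem_open (Set.mem_univ (f (closedPoint A))) isOpen_univ
  haveI := hU.isOpenImmersion_fromSpec
  have hrange : Set.range f ⊆ Set.range hU.fromSpec := by
    rintro _ ⟨x, rfl⟩
    rw [hU.range_fromSpec]
    haveI : (x : PrimeSpectrum A).asIdeal.IsPrime := (x : PrimeSpectrum A).2
    have : x = closedPoint A := PrimeSpectrum.ext
      (IsLocalRing.eq_maximalIdeal (IsArtinianRing.isMaximal_of_isPrime (x : PrimeSpectrum A).asIdeal))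
    exact this ▸ hsU
  let φ := Spec.preimage (IsOpenImmersion.lift hU.fromSpec f hrange)
  have hφ : Spec.map φ ≫ hU.fromSpec = f := by
    rw [Spec.map_preimage, IsOpenImmersion.lift_fac]
  have hres : (φ ≫ CommRingCat.ofHom (residue A)).hom.FiniteType := by
    refine (HasRingHomProperty.Spec_iff (P := @LocallyOfFiniteType)).mp ?_
    haveI : LocallyOfFiniteType (Spec.map (φ ≫ CommRingCat.ofHom (residue A)) ≫ hU.fromSpec) := by
      rw [Spec.map_comp, Category.assoc, hφ]; exact h
    exact locallyOfFiniteType_of_comp _ hU.fromSpec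
  suffices hft : φ.hom.FiniteType by
    haveI : LocallyOfFiniteType (Spec.map φ) := (HasRingHomProperty.Spec_iff (P := @LocallyOfFiniteType)).mpr hft
    rw [← hφ]
    infer_instance
  let ψ : Γ(S, U) →+* A := φ.hom
  letI := ψ.toAlgebra
  haveI : Algebra.FiniteType Γ(S, U) (ResidueField A) := by
    show RingHom.FiniteType (algebraMap Γ(S, U) (ResidueField A))
    exact hres
  show Algebra.FiniteType Γ(S, U) A
  obtain ⟨s, hs⟩ := (Algebra.FiniteType.out : (⊤ : Subalgebra Γ(S, U) (ResidueField A)).FG)
  choose l hl using fun x : ResidueField A => residue_surjective x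
  obtain ⟨G, hG⟩ := IsNoetherian.noetherian (maximalIdeal A)
  classical
  refine ⟨⟨s.image l ∪ G, adjoin_eq_top_of_nilpotent _ (maximalIdeal A) ?_ G hG
    (fun g hg => Algebra.subset_adjoin (by simp [Finset.mem_coe.mp hg])) fun a => ?_⟩⟩
  · rw [← IsLocalRing.jacobson_eq_maximalIdeal ⊥ bot_ne_top]
    exact IsArtinianRing.isNilpotent_jacobson_bot
  · have ha : residue A a ∈ Algebra.adjoin Γ(S, U) (s : Set (ResidueField A)) := hs ▸ trivial
    have hsub : Algebra.adjoin Γ(S, U) (s : Set (ResidueField A)) ≤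
        (Algebra.adjoin Γ(S, U) ((s.image l ∪ G : Finset A) : Set A)).map
          (IsScalarTower.toAlgHom Γ(S, U) A (ResidueField A)) := by
      rw [Algebra.adjoin_le_iff]
      intro x hx
      exact ⟨l x, Algebra.subset_adjoin (by simp only [Finset.coe_union, Finset.coe_image, Set.mem_union]; exact Or.inl ⟨x, hx, rfl⟩), hl x⟩
    obtain ⟨b, hb, hb'⟩ := hsub ha
    exact ⟨b, hb, (residue_eq_zero_iff _).mp (by rw [map_sub, sub_eq_zero]; exact hb'.symm)⟩

end Groth.Agent.FtPts6
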